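import Groth.Agent.Lib.EtAlgH7.Chart

/-! Reduction of the chart theorem to the smooth case. -/

universe u
open TensorProduct KaehlerDifferential

namespace Groth.Agent.Lib.EtAlgH7

theorem exists_chart_at (k : Type u) [CommRing k] [IsLocalRing k]
    [Finite (IsLocalRing.ResidueField k)]
    (R : Type u) [CommRing R] [Algebra k R] [Algebra.FinitePresentation k R]
    (m : Ideal R) [m.IsMaximal] (hm : m.comap (algebraMap k R) = IsLocalRing.maximalIdeal k)
    [Algebra.IsSmoothAt k m] (d : ℕ) (hd : 0 < d)
    (hdim : Module.finrank (R ⧸ m) ((R ⧸ m) ⊗[R] Ω[R⁄k]) = d) :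
    ∃ g : R, g ∉ m ∧ ∃ φ : MvPolynomial (Fin d) k →ₐ[k] Localization.Away g,
      φ.toRingHom.Etale ∧
      Function.Surjective
        ((Ideal.Quotient.mk (m.map (algebraMap R (Localization.Away g)))).comp φ.toRingHom) := by
  classical
  obtain ⟨g, hg, hsm⟩ := Algebra.IsSmoothAt.exists_notMem_smooth k m
  let S := Localization.Away g
  let n : Ideal S := m.map (algebraMap R S)
  have hdisj : Disjoint (Submonoid.powers g : Set R) (m : Set R) := by
    rwa [Ideal.disjoint_powers_iff_notMem_of_isPrime]
  have hnprime : n.IsPrime :=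
    IsLocalization.isPrime_of_isPrime_disjoint (Submonoid.powers g) _ _ inferInstance hdisj
  have hncomap : n.comap (algebraMap R S) = m :=
    IsLocalization.comap_map_of_isPrime_disjoint (Submonoid.powers g) _ inferInstance hdisj
  have hsurj : Function.Surjective ((Ideal.Quotient.mk n).comp (algebraMap R S)) := by
    intro y
    obtain ⟨y, rfl⟩ := Ideal.Quotient.mk_surjective y
    obtain ⟨N, r, hr⟩ := IsLocalization.Away.surj g y
    obtain ⟨v, i, hi, hv⟩ := (‹m.IsMaximal›).exists_inv
      (fun h => hg (Ideal.IsPrime.mem_of_pow_mem inferInstance N h) : g ^ N ∉ m)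
    refine ⟨r * v, ?_⟩
    have h1 : Ideal.Quotient.mk n (algebraMap R S v) *
        Ideal.Quotient.mk n (algebraMap R S (g ^ N)) = 1 := by
      rw [← map_mul, ← map_mul, ← map_one (Ideal.Quotient.mk n), ← map_one (algebraMap R S),
        Ideal.Quotient.eq, ← map_sub, show v * g ^ N - 1 = -i by rw [← hv]; ring]
      exact Ideal.mem_map_of_mem _ (neg_mem hi)
    simp only [RingHom.comp_apply, map_mul, ← hr]
    calc _ = Ideal.Quotient.mk n y * (Ideal.Quotient.mk n (algebraMap R S v) *
          Ideal.Quotient.mk n (algebraMap R S (g ^ N))) := by rw [map_pow, map_pow, map_pow]; ring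
      _ = _ := by rw [h1, mul_one]
  haveI hnmax : n.IsMaximal := by
    letI := Ideal.Quotient.field m
    rw [Ideal.Quotient.maximal_ideal_iff_isField_quotient]
    have hk : ((Ideal.Quotient.mk n).comp (algebraMap R S)) = (Ideal.Quotient.mk n).comp (algebraMap R S) := rfl
    haveI : (RingHom.ker ((Ideal.Quotient.mk n).comp (algebraMap R S))).IsMaximal := by
      rw [← RingHom.comap_ker, Ideal.mk_ker, hncomap]; infer_instance
    exact (RingHom.quotientKerEquivOfSurjective hsurj).symm.toMulEquiv.isField
      (Ideal.Quotient.maximal_ideal_iff_isField_quotient _ |>.mp this)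
  have hn : n.comap (algebraMap k S) = IsLocalRing.maximalIdeal k := by
    rw [IsScalarTower.algebraMap_eq k R S, ← Ideal.comap_comap, hncomap, hm]
  have hdim' : Module.finrank (S ⧸ n) ((S ⧸ n) ⊗[S] Ω[S⁄k]) = d := by
    letI := Ideal.Quotient.field m
    letI := Ideal.Quotient.field n
    letI : Algebra (R ⧸ m) (S ⧸ n) := (Ideal.Quotient.lift m
      ((Ideal.Quotient.mk n).comp (algebraMap R S)) (fun x hx =>
        Ideal.Quotient.eq_zero_iff_mem.mpr (Ideal.mem_map_of_mem _ hx))).toAlgebra
    haveI : IsScalarTower R (R ⧸ m) (S ⧸ n) := IsScalarTower.of_algebraMap_eq fun x => rfl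
    haveI : Algebra.FormallyEtale R S := Algebra.FormallyEtale.of_isLocalization (Submonoid.powers g)
    let e1 := TensorProduct.AlgebraTensorModule.congr (R := S) (A := S ⧸ n)
      (LinearEquiv.refl (S ⧸ n) (S ⧸ n)) (tensorKaehlerEquivOfFormallyEtale k R S).symm
    let e2 := TensorProduct.AlgebraTensorModule.cancelBaseChange R S (S ⧸ n) (S ⧸ n) Ω[R⁄k]
    let e3 := (TensorProduct.AlgebraTensorModule.cancelBaseChange R (R ⧸ m) (S ⧸ n) (S ⧸ n)
      Ω[R⁄k]).symm
    rw [((e1.trans e2).trans e3).finrank_eq, Module.finrank_baseChange, hdim]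
  haveI := hsm
  obtain ⟨a, h, hh, hres, het⟩ := exists_chart n hn hd hdim'
  let h₀ := (IsLocalization.Away.sec g h).1
  let T := Localization.Away h
  haveI : IsLocalization.Away (g * h₀) T :=
    .mul_of_associated _ _ h <| IsLocalization.Away.associated_sec_fst g h
  let e : Localization.Away (g * h₀) ≃ₐ[R] T := Localization.algEquiv _ _
  have hgh : g * h₀ ∉ m := by
    refine Ideal.IsPrime.mul_notMem inferInstance hg fun hmem => hh ?_
    rw [Ideal.mem_iff_of_associated (IsLocalization.Away.associated_sec_fst g h).symm]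
    exact Ideal.mem_map_of_mem (algebraMap R S) hmem
  let ek : T ≃ₐ[k] Localization.Away (g * h₀) := (e.restrictScalars k).symm
  let ψ : MvPolynomial (Fin d) k →ₐ[k] T := MvPolynomial.aeval fun i => algebraMap S T (a i)
  refine ⟨g * h₀, hgh, ek.toAlgHom.comp ψ, ?_, ?_⟩
  · exact RingHom.Etale.respectsIso.1 ψ.toRingHom ek.toRingEquiv (het T)
  · intro y
    obtain ⟨y, rfl⟩ := Ideal.Quotient.mk_surjective y
    obtain ⟨N, r, hr⟩ := IsLocalization.Away.surj (g * h₀) y
    obtain ⟨v, i, hi, hv⟩ := (‹m.IsMaximal›).exists_inv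
      (fun hc => hgh (Ideal.IsPrime.mem_of_pow_mem inferInstance N hc) : (g * h₀) ^ N ∉ m)
    obtain ⟨p, hp⟩ := hres (Ideal.Quotient.mk n (algebraMap R S (r * v)))
    refine ⟨p, ?_⟩
    set f : S →+* Localization.Away (g * h₀) :=
      (ek.toAlgHom.toRingHom).comp (algebraMap S T)
    have hfR : ∀ x, f (algebraMap R S x) = algebraMap R (Localization.Away (g * h₀)) x := fun x => by
      change e.symm (algebraMap S T (algebraMap R S x)) = _
      rw [← IsScalarTower.algebraMap_apply, AlgEquiv.commutes]
    have hfn : n.map f ≤ m.map (algebraMap R (Localization.Away (g * h₀))) := by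
      rw [Ideal.map_map, show f.comp (algebraMap R S) = algebraMap R _ from RingHom.ext hfR]
    have hψ : ek (ψ p) = f (MvPolynomial.aeval a p) := by
      have : ψ = (IsScalarTower.toAlgHom k S T).comp (MvPolynomial.aeval a) := by
        ext j; simp [ψ]
      rw [this]; rfl
    have h1 : Ideal.Quotient.mk (m.map (algebraMap R (Localization.Away (g * h₀)))) (ek (ψ p)) =
        Ideal.Quotient.mk _ (algebraMap R (Localization.Away (g * h₀)) (r * v)) := by
      rw [hψ, ← hfR, Ideal.Quotient.eq, ← map_sub]
      exact hfn (Ideal.mem_map_of_mem f (Ideal.Quotient.eq.mp hp))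
    refine h1.trans ?_
    have h2 : Ideal.Quotient.mk (m.map (algebraMap R (Localization.Away (g * h₀))))
        (algebraMap R (Localization.Away (g * h₀)) v) *
        Ideal.Quotient.mk _ (algebraMap R (Localization.Away (g * h₀)) ((g * h₀) ^ N)) = 1 := by
      rw [← map_mul, ← map_mul,
        ← map_one (Ideal.Quotient.mk (m.map (algebraMap R (Localization.Away (g * h₀))))),
        ← map_one (algebraMap R (Localization.Away (g * h₀))),
        Ideal.Quotient.eq, ← map_sub, show v * (g * h₀) ^ N - 1 = -i by rw [← hv]; ring]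
      exact Ideal.mem_map_of_mem _ (neg_mem hi)
    calc _ = Ideal.Quotient.mk (m.map (algebraMap R (Localization.Away (g * h₀)))) y *
          (Ideal.Quotient.mk _ (algebraMap R (Localization.Away (g * h₀)) v) *
            Ideal.Quotient.mk _ (algebraMap R (Localization.Away (g * h₀)) ((g * h₀) ^ N))) := by
            rw [map_mul, ← hr]; simp only [map_pow, map_mul]; ring
      _ = _ := by rw [h2, mul_one]

end Groth.Agent.Lib.EtAlgH7
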