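import Groth.Agent.Lib.EtAlgH7.Tame

/-! The inertia group of a separable residue extension has order the ramification index; the tame
quotient is the group of `e`-th roots of unity of the residue field. -/

universe u v w
open scoped Pointwise
open MulAction

namespace Groth.Agent.Lib.EtAlgH7

variable {A : Type u} [CommRing A] {B : Type v} [CommRing B] [Algebra A B]
  {G : Type w} [Group G] [Finite G] [MulSemiringAction G B] [IsGaloisGroup G A B]

attribute [local instance] Ideal.Quotient.field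

theorem card_inertia [IsDomain A] [IsDomain B] [Module.Finite A B] [Module.Flat A B]
    (p : Ideal A) (m : Ideal B) [m.LiesOver p] [p.IsMaximal] [m.IsMaximal]
    [Algebra.IsSeparable (A ⧸ p) (B ⧸ m)] :
    Nat.card (m.inertia G) = m.ramificationIdx A := by
  have hn : Normal (A ⧸ p) (B ⧸ m) := Ideal.Quotient.normal G p m
  have hgal : IsGalois (A ⧸ p) (B ⧸ m) := { __ := hn }
  have hfin : Module.Finite (A ⧸ p) (B ⧸ m) := Ideal.Quotient.finite_of_isInvariant G p m
  have hst : Nat.card (stabilizer G m) = Nat.card (m.inertia G) * m.inertiaDeg A := by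
    have : Subgroup.index _ = _ :=
      Nat.card_congr (Ideal.Quotient.stabilizerQuotientInertiaEquiv G p m).toEquiv
    rw [Ideal.inertiaDeg_eq_of_isMaximal p m, ← IsGalois.card_aut_eq_finrank (A ⧸ p) (B ⧸ m),
      ← this, ← ((Ideal.inertia G m).subgroupOf (stabilizer G m)).card_mul_index,
      Nat.card_congr (Subgroup.subgroupOfEquivOfLe (Ideal.inertia_le_stabilizer (M := G) m)).toEquiv,
      AddSubgroup.subgroupOf_inertia]
  have H : (p.primesOver B).ncard * Nat.card (m.inertia G) * m.inertiaDeg A = Nat.card G := by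
    rw [mul_assoc, ← hst, ← Algebra.IsInvariant.orbit_eq_primesOver A B G p m]
    simpa using Nat.card_congr (MulAction.orbitProdStabilizerEquivGroup G m)
  rw [← Ideal.inertiaDegIn_eq_inertiaDeg p m G] at H
  have h1 : (p.primesOver B).ncard ≠ 0 := by grind [Nat.card_pos]
  have h2 : p.inertiaDegIn B ≠ 0 := by grind [Nat.card_pos]
  rw [← Ideal.ncard_primesOver_mul_ramificationIdxIn_mul_inertiaDegIn p B G,
    mul_assoc, mul_right_inj' h1, mul_left_inj' h2] at H
  rw [H, Ideal.ramificationIdxIn_eq_ramificationIdx p m G]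

omit [Finite G] [IsGaloisGroup G A B] in
/-- An element of the inertia group fixing a generator of `m` modulo `m²` is wild. -/
theorem mem_wild (A : Type u) [CommRing A] [Algebra A B] [IsGaloisGroup G A B]
    (m : Ideal B) [m.IsMaximal] [(m.comap (algebraMap A B)).IsMaximal]
    [Algebra.IsSeparable (A ⧸ m.comap (algebraMap A B)) (B ⧸ m)] {π : B} (hπ : m = Ideal.span {π}) {σ : G} (hI : σ ∈ m.inertia G)
    (hσπ : σ • π - π ∈ m ^ 2) : σ ∈ (m ^ 2).inertia G := by
  have : (m.comap (algebraMap A B)).IsPrime := inferInstance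
  have hmul : ∀ y ∈ m, σ • y - y ∈ m ^ 2 := by
    intro y hy
    rw [hπ, Ideal.mem_span_singleton'] at hy
    obtain ⟨z, rfl⟩ := hy
    have e : σ • (z * π) - z * π = σ • z * (σ • π - π) + (σ • z - z) * π := by
      rw [smul_mul']; ring
    rw [e]
    exact add_mem (Ideal.mul_mem_left _ _ hσπ)
      (pow_two m ▸ Ideal.mul_mem_mul (hI z) (gen_mem hπ))
  intro x
  change σ • x - x ∈ m ^ 2
  set k := A ⧸ m.comap (algebraMap A B)
  have hsep : IsSeparable k (Ideal.Quotient.mk m x) := Algebra.IsSeparable.isSeparable k _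
  obtain ⟨f, hf⟩ := Polynomial.map_surjective (Ideal.Quotient.mk (m.comap (algebraMap A B)))
    Ideal.Quotient.mk_surjective (minpoly k (Ideal.Quotient.mk m x))
  have hev : ∀ g : Polynomial A, Polynomial.aeval (Ideal.Quotient.mk m x)
      (g.map (Ideal.Quotient.mk (m.comap (algebraMap A B)))) =
      Ideal.Quotient.mk m (Polynomial.aeval x g) := by
    intro g
    rw [← Ideal.Quotient.algebraMap_eq (m.comap (algebraMap A B)), Polynomial.aeval_map_algebraMap]
    exact Polynomial.aeval_algHom_apply (Ideal.Quotient.mkₐ A m) x g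
  have h0 : Polynomial.aeval x f ∈ m := by
    rw [← Ideal.Quotient.eq_zero_iff_mem, ← hev, hf, minpoly.aeval]
  have h1 : Polynomial.aeval x (Polynomial.derivative f) ∉ m := by
    rw [← Ideal.Quotient.eq_zero_iff_mem, ← hev, ← Polynomial.derivative_map, hf]
    exact hsep.aeval_derivative_ne_zero (minpoly.aeval k _)
  set d := σ • x - x
  obtain ⟨c, hc⟩ := Polynomial.binomExpansion (f.map (algebraMap A B)) x d
  have hx : x + d = σ • x := by simp [d]
  have hcomm : Polynomial.aeval (σ • x) f = σ • Polynomial.aeval x f :=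
    Polynomial.aeval_algHom_apply (MulSemiringAction.toAlgHom A B σ) x f
  simp only [hx, Polynomial.derivative_map, Polynomial.eval_map_algebraMap, hcomm] at hc
  have hdd : d ^ 2 ∈ m ^ 2 := Ideal.pow_mem_pow (hI x) 2
  have hmem : Polynomial.aeval x (Polynomial.derivative f) * d ∈ m ^ 2 := by
    have e : Polynomial.aeval x (Polynomial.derivative f) * d =
        (σ • Polynomial.aeval x f - Polynomial.aeval x f) - c * d ^ 2 := by rw [hc]; ring
    rw [e]
    exact sub_mem (hmul _ h0) (Ideal.mul_mem_left _ _ hdd)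
  have hdm : d ∈ m := hI x
  obtain ⟨r, i, hi, hri⟩ := (‹m.IsMaximal›).exists_inv h1
  have e : d = r * (Polynomial.aeval x (Polynomial.derivative f) * d) + i * d := by
    calc d = (r * Polynomial.aeval x (Polynomial.derivative f) + i) * d := by rw [hri, one_mul]
      _ = _ := by ring
  rw [e]
  exact add_mem (Ideal.mul_mem_left _ _ hmem) (pow_two m ▸ Ideal.mul_mem_mul hi hdm)

variable [IsDomain A] [IsDiscreteValuationRing A] [IsDomain B] [IsDedekindDomain B]
  [Module.Finite A B] [FaithfulSMul A B] (m : Ideal B) [m.IsMaximal]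
  [Algebra.IsSeparable (A ⧸ m.comap (algebraMap A B)) (B ⧸ m)]

/-- The structure of inertia, wild inertia and the tame quotient. -/
theorem tame_structure :
    let D : Subgroup G := stabilizer G m
    let I : Subgroup G := m.inertia G
    let P : Subgroup G := D ⊓ (m ^ 2).inertia G
    let e : ℕ := Ideal.ramificationIdx' (IsLocalRing.maximalIdeal A) m
    P ≤ I ∧ I ≤ D ∧ (P.subgroupOf D).Normal ∧
    (∀ p : ℕ, p.Prime → CharP (A ⧸ m.comap (algebraMap A B)) p → IsPGroup p P) ∧
    (CharZero (A ⧸ m.comap (algebraMap A B)) → P = ⊥) ∧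
    (∀ [(P.subgroupOf I).Normal],
      IsCyclic (I ⧸ P.subgroupOf I) ∧
      (∀ p : ℕ, p.Prime → CharP (A ⧸ m.comap (algebraMap A B)) p →
        Nat.card (I ⧸ P.subgroupOf I) = e / p ^ e.factorization p) ∧
      (CharZero (A ⧸ m.comap (algebraMap A B)) → Nat.card (I ⧸ P.subgroupOf I) = e) ∧
      Nonempty (I ⧸ P.subgroupOf I ≃* ↥(rootsOfUnity e (B ⧸ m)))) := by
  intro D I P e
  classical
  haveI : IsLocalRing A := inferInstance
  haveI : Algebra.IsIntegral A B := Algebra.IsIntegral.of_finite A B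
  haveI hpmax : (m.comap (algebraMap A B)).IsMaximal :=
    Ideal.isMaximal_comap_of_isIntegral_of_isMaximal m
  have hmA : m.comap (algebraMap A B) = IsLocalRing.maximalIdeal A :=
    IsLocalRing.eq_maximalIdeal hpmax
  set p₀ := m.comap (algebraMap A B)
  haveI : m.LiesOver p₀ := ⟨rfl⟩
  haveI : Module.IsTorsionFree A B := inferInstance
  haveI : Module.Flat A B := inferInstance
  haveI hfaith : FaithfulSMul G B := IsGaloisGroup.faithful A
  -- `B` is a principal ideal ring
  haveI : IsPrincipalIdealRing B := by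
    refine IsPrincipalIdealRing.of_finite_primes
      ((((Algebra.QuasiFinite.finite_primesOver p₀).union
        (Algebra.QuasiFinite.finite_primesOver (⊥ : Ideal A))).subset ?_))
    intro q hq
    haveI : q.IsPrime := hq
    by_cases hq0 : q.comap (algebraMap A B) = ⊥
    · exact Or.inr ⟨hq, ⟨hq0.symm⟩⟩
    · haveI := (Ideal.comap_isPrime (algebraMap A B) q).isMaximal hq0
      exact Or.inl ⟨hq, ⟨hmA.trans (IsLocalRing.eq_maximalIdeal this).symm⟩⟩
  obtain ⟨π, hπ⟩ := (IsPrincipalIdealRing.principal m).principal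
  have hπ' : m = Ideal.span {π} := hπ
  have hp0 : p₀ ≠ ⊥ := hmA ▸ IsDiscreteValuationRing.not_a_field A
  have hπ0 : π ≠ 0 := by
    rintro rfl
    apply hp0
    simp only [p₀, hπ', Ideal.span_singleton_eq_bot.mpr rfl]
    exact Ideal.comap_bot_of_injective _ (FaithfulSMul.algebraMap_injective A B)
  have he : Nat.card I = e := by
    rw [show Nat.card I = _ from card_inertia (G := G) p₀ m,
      ← Ideal.ramificationIdx'_eq_ramificationIdx' p₀ m ?_]
    · simp only [e, hmA]
    · exact (Ideal.map_eq_bot_iff_of_injective (FaithfulSMul.algebraMap_injective A B)).not.mpr hp0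
  have hPI : P ≤ I := fun σ hσ => inertia_pow_le (by norm_num : 1 ≤ 2) (Subgroup.mem_inf.mp hσ).2
  have hID : I ≤ D := Ideal.inertia_le_stabilizer m
  have hinj : Function.Injective (algebraMap (A ⧸ p₀) (B ⧸ m)) := RingHom.injective _
  have hkill : ∀ l : ℕ, (l : A ⧸ p₀) ≠ 0 → ∀ σ ∈ P, σ ^ l = 1 → σ = 1 := by
    intro l hl σ hσ h1
    refine wild_eq_one hπ' hπ0 (Subgroup.mem_inf.mp hσ).2 (fun hlm => hl (hinj ?_)) h1
    rw [map_natCast, map_zero]
    exact (map_natCast (Ideal.Quotient.mk m) l).symm.trans (Ideal.Quotient.eq_zero_iff_mem.mpr hlm)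
  have hpgrp : ∀ p : ℕ, p.Prime → CharP (A ⧸ p₀) p → IsPGroup p P := by
    intro p hp hc
    haveI := Fact.mk hp
    intro σ
    obtain ⟨k, l, hl, hkl⟩ := Nat.exists_eq_pow_mul_and_not_dvd (orderOf_pos σ).ne' p hp.ne_one
    refine ⟨k, ?_⟩
    have h2 : (σ ^ p ^ k) ^ l = 1 := by rw [← pow_mul, ← hkl, pow_orderOf_eq_one]
    apply Subtype.ext
    refine hkill l (by rwa [Ne, CharP.cast_eq_zero_iff (A ⧸ p₀) p]) _ (σ ^ p ^ k).2 ?_
    exact congr_arg Subtype.val h2
  have hzero : CharZero (A ⧸ p₀) → P = ⊥ := by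
    intro hc
    rw [eq_bot_iff]
    intro σ hσ
    rw [Subgroup.mem_bot]
    exact hkill (orderOf σ) (Nat.cast_ne_zero.mpr (orderOf_pos σ).ne') σ hσ (pow_orderOf_eq_one σ)
  refine ⟨hPI, hID, normal_wild m, hpgrp, hzero, ?_⟩
  intro hnorm
  -- the character
  choose u hu using fun σ : I => smul_gen hπ' (hID σ.2)
  have hcancel : ∀ {a b : B}, a * π = b * π → a = b := fun h => mul_right_cancel₀ hπ0 h
  let θ : I →* B ⧸ m :=
    { toFun := fun σ => Ideal.Quotient.mk m (u σ)
      map_one' := by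
        have := hu 1
        rw [OneMemClass.coe_one, one_smul] at this
        have h1 : u 1 = 1 := hcancel (by rw [one_mul]; exact this.symm)
        rw [h1, map_one]
      map_mul' := fun σ τ => by
        have h := hu (σ * τ)
        rw [Subgroup.coe_mul, mul_smul, hu τ, smul_mul', hu σ, ← mul_assoc] at h
        rw [← hcancel h, map_mul, mul_comm]
        congr 1
        exact Ideal.Quotient.eq.mpr (σ.2 _) }
  have hker : θ.toHomUnits.ker = P.subgroupOf I := by
    ext σ
    rw [MonoidHom.mem_ker, Units.ext_iff, Subgroup.mem_subgroupOf]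
    have hθ : θ σ = 1 ↔ u σ - 1 ∈ m := Ideal.Quotient.eq (I := m) (x := u σ) (y := 1)
    change θ σ = 1 ↔ _
    rw [hθ]
    have e1 : (σ : G) • π - π = (u σ - 1) * π := by rw [hu σ]; ring
    constructor
    · intro h
      refine Subgroup.mem_inf.mpr ⟨hID σ.2, mem_wild A m hπ' σ.2 ?_⟩
      rw [e1, pow_two]
      exact Ideal.mul_mem_mul h (gen_mem hπ')
    · intro h
      have h2 : (σ : G) • π - π ∈ m ^ 2 := (Subgroup.mem_inf.mp h).2 π
      rw [e1, hπ', Ideal.span_singleton_pow, Ideal.mem_span_singleton'] at h2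
      obtain ⟨c, hc⟩ := h2
      have : c * π = u σ - 1 := hcancel (by rw [← hc]; ring)
      rw [← this]
      exact Ideal.mul_mem_left _ _ (gen_mem hπ')
  let R₀ : Subgroup (B ⧸ m)ˣ := θ.toHomUnits.range
  let E : (I ⧸ P.subgroupOf I) ≃* R₀ :=
    (QuotientGroup.quotientMulEquivOfEq hker.symm).trans
      (QuotientGroup.quotientKerEquivRange θ.toHomUnits)
  haveI : Finite R₀ := Finite.of_equiv _ E.toEquiv
  set N := Nat.card (I ⧸ P.subgroupOf I)
  have hN : N = Nat.card R₀ := Nat.card_congr E.toEquiv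
  haveI : NeZero N := ⟨Nat.card_pos.ne'⟩
  have hR : R₀ = rootsOfUnity N (B ⧸ m) := by
    refine Subgroup.eq_of_le_of_card_ge (fun x hx => ?_) ((card_rootsOfUnity _ _).trans hN.le)
    rw [mem_rootsOfUnity]
    have h1 : (⟨x, hx⟩ : R₀) ^ N = 1 := hN ▸ pow_card_eq_one'
    simpa using congr_arg Subtype.val h1
  have hcard : e = N * Nat.card P := by
    rw [← he, Subgroup.card_eq_card_quotient_mul_card_subgroup (P.subgroupOf I),
      Nat.card_congr (Subgroup.subgroupOfEquivOfLe hPI).toEquiv]
  have hNp : ∀ p : ℕ, p.Prime → CharP (A ⧸ p₀) p → ¬ p ∣ N := by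
    intro p hp hc hdvd
    haveI := Fact.mk hp
    haveI : CharP (B ⧸ m) p := charP_of_injective_algebraMap hinj p
    obtain ⟨x, hx⟩ := exists_prime_orderOf_dvd_card' (G := R₀) p (hN ▸ hdvd)
    have h1 : (((x : (B ⧸ m)ˣ) : B ⧸ m)) ^ p ^ 1 = 1 := by
      rw [pow_one, ← Units.val_pow_eq_pow_val, ← SubmonoidClass.coe_pow, ← hx,
        pow_orderOf_eq_one]
      rfl
    rw [← mul_one (p ^ 1), ExpChar.pow_prime_pow_mul_eq_one_iff, pow_one] at h1
    have hx1 : x = 1 := Subtype.ext (Units.ext h1)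
    rw [hx1, orderOf_one] at hx
    exact hp.one_lt.ne hx
  have hpart : ∀ p : ℕ, p.Prime → CharP (A ⧸ p₀) p → ∃ k, e = p ^ k * N ∧ e.factorization p = k := by
    intro p hp hc
    haveI := Fact.mk hp
    obtain ⟨k, hk⟩ := IsPGroup.iff_card.mp (hpgrp p hp hc)
    refine ⟨k, by rw [hcard, hk, mul_comm], ?_⟩
    rw [hcard, hk, Nat.factorization_mul (NeZero.ne N) (pow_ne_zero _ hp.ne_zero), Finsupp.add_apply,
      Nat.factorization_eq_zero_of_not_dvd (hNp p hp hc), hp.factorization_pow, Finsupp.single_eq_same,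
      zero_add]
  have hzN : CharZero (A ⧸ p₀) → N = e := by
    intro hc
    have := hzero hc
    rw [hcard, this, Subgroup.card_bot, mul_one]
  refine ⟨?_, ?_, hzN, ?_⟩
  · exact isCyclic_of_surjective E.symm E.symm.surjective
  · intro p hp hc
    obtain ⟨k, hk, hf⟩ := hpart p hp hc
    rw [hf, hk, Nat.mul_div_cancel_left _ (pow_pos hp.pos _)]
  · have : rootsOfUnity e (B ⧸ m) = R₀ := by
      rw [hR]
      rcases CharP.exists (A ⧸ p₀) with ⟨q, hq⟩
      rcases CharP.char_is_prime_or_zero (A ⧸ p₀) q with hp | rfl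
      · haveI := Fact.mk hp
        haveI : CharP (B ⧸ m) q := charP_of_injective_algebraMap hinj q
        obtain ⟨k, hk, -⟩ := hpart q hp hq
        ext z
        rw [hk, mem_rootsOfUnity_prime_pow_mul_iff]
      · rw [hzN (CharP.charP_to_charZero _)]
    exact ⟨E.trans (MulEquiv.subgroupCongr this.symm)⟩

end Groth.Agent.Lib.EtAlgH7
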