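import Mathlib

/-! Inertia, wild inertia and the tame quotient at a prime of a Galois extension of Dedekind
domains with separable residue extension. -/

universe u v w
open scoped Pointwise
open MulAction

namespace Groth.Agent.Lib.EtAlgH7

variable {G : Type w} [Group G] {B : Type v} [CommRing B] [MulSemiringAction G B]

theorem inertia_pow_le {m : Ideal B} {σ : G} {n : ℕ} (hn : 1 ≤ n) (h : σ ∈ (m ^ n).inertia G) :
    σ ∈ m.inertia G := fun x => Ideal.pow_le_self (by omega) (h x)

theorem normal_wild (m : Ideal B) :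
    ((stabilizer G m ⊓ (m ^ 2).inertia G).subgroupOf (stabilizer G m)).Normal := by
  refine ⟨fun n hn g => ?_⟩
  rw [Subgroup.mem_subgroupOf] at hn ⊢
  refine Subgroup.mem_inf.mpr ⟨(g * n * g⁻¹).2, fun x => ?_⟩
  have hm2 : (g : G) • (m ^ 2) = m ^ 2 := by
    rw [smul_pow', mem_stabilizer_iff.mp g.2]
  have h := Ideal.smul_mem_pointwise_smul (g : G) _ _ ((Subgroup.mem_inf.mp hn).2 ((g : G)⁻¹ • x))
  rw [hm2, smul_sub, smul_inv_smul, smul_smul, smul_smul] at h
  exact h

variable {m : Ideal B} {π : B} (hπ : m = Ideal.span {π})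
include hπ

theorem smul_gen {σ : G} (h : σ ∈ stabilizer G m) : ∃ u : B, σ • π = u * π := by
  have hh : σ • π ∈ σ • m := Ideal.smul_mem_pointwise_smul σ π m
    (by rw [hπ]; exact Ideal.mem_span_singleton_self π)
  rw [mem_stabilizer_iff.mp h, hπ, Ideal.mem_span_singleton'] at hh
  obtain ⟨u, hu⟩ := hh
  exact ⟨u, hu.symm⟩

theorem gen_mem : π ∈ m := hπ ▸ Ideal.mem_span_singleton_self π

/-- An element of the wild group raises the filtration degree. -/
theorem wild_raises {σ : G} (hσ : σ ∈ (m ^ 2).inertia G) {j : ℕ} {z : B} (hz : z ∈ m ^ j) :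
    σ • z - z ∈ m ^ (j + 1) := by
  have hI := inertia_pow_le (by norm_num : 1 ≤ 2) hσ
  have h : σ • π - π ∈ m ^ 2 := hσ π
  rw [hπ, Ideal.span_singleton_pow, Ideal.mem_span_singleton'] at h
  obtain ⟨t, ht⟩ := h
  rw [hπ, Ideal.span_singleton_pow, Ideal.mem_span_singleton'] at hz
  obtain ⟨w, rfl⟩ := hz
  have hs : σ • π = π * (1 + π * t) := by linear_combination -ht
  have e : σ • (w * π ^ j) - w * π ^ j = π ^ j * ((1 + π * t) ^ j * (σ • w) - w) := by
    rw [smul_mul', smul_pow', hs, mul_pow]; ring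
  rw [e, pow_succ]
  refine Ideal.mul_mem_mul (Ideal.pow_mem_pow (gen_mem hπ) j) ?_
  rw [← Ideal.Quotient.eq_zero_iff_mem, map_sub, map_mul, map_pow, map_add, map_mul,
    Ideal.Quotient.eq_zero_iff_mem.mpr (gen_mem hπ), zero_mul, map_one, add_zero, one_pow, one_mul,
    ← map_sub, Ideal.Quotient.eq_zero_iff_mem]
  exact hI w

variable [IsDomain B] [IsNoetherianRing B] [m.IsMaximal] [FaithfulSMul G B] (hπ0 : π ≠ 0)
include hπ0

/-- An element of the wild group killed by an integer prime to `m` is trivial. -/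
theorem wild_eq_one {σ : G} (hσ : σ ∈ (m ^ 2).inertia G) {l : ℕ} (hl : (l : B) ∉ m)
    (hone : σ ^ l = 1) : σ = 1 := by
  have key : ∀ n : ℕ, σ ∈ (m ^ n).inertia G := by
    intro n
    induction n with
    | zero => intro x; simp
    | succ n ih =>
      intro x
      change σ • x - x ∈ m ^ (n + 1)
      set d := σ • x - x with hd
      have hdn : d ∈ m ^ n := ih x
      have hk : ∀ k : ℕ, (σ ^ k) • x - x - (k : B) * d ∈ m ^ (n + 1) := by
        intro k
        induction k with
        | zero => simp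
        | succ k hk =>
          have h1 := wild_raises hπ (Subgroup.pow_mem _ hσ k) hdn
          have e : (σ ^ (k + 1)) • x - x - ((k + 1 : ℕ) : B) * d
              = ((σ ^ k) • d - d) + ((σ ^ k) • x - x - (k : B) * d) := by
            rw [pow_succ, mul_smul, hd, smul_sub]; push_cast; ring
          rw [e]
          exact add_mem h1 hk
      have h2 := hk l
      rw [hone, one_smul, sub_self, zero_sub, neg_mem_iff, hπ, Ideal.span_singleton_pow,
        Ideal.mem_span_singleton'] at h2
      obtain ⟨c, hc⟩ := h2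
      rw [hπ, Ideal.span_singleton_pow, Ideal.mem_span_singleton'] at hdn
      obtain ⟨d', hd'⟩ := hdn
      have e2 : (l : B) * d' = c * π := by
        apply mul_right_cancel₀ (pow_ne_zero n hπ0)
        rw [mul_assoc (l : B), hd', ← hc, pow_succ]; ring
      have hd'm : d' ∈ m := by
        refine ((‹m.IsMaximal›.isPrime).mem_or_mem ?_).resolve_left hl
        rw [e2]; exact Ideal.mul_mem_left _ _ (gen_mem hπ)
      rw [← hd', pow_succ, mul_comm d']
      exact Ideal.mul_mem_mul (Ideal.pow_mem_pow (gen_mem hπ) n) hd'm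
  apply FaithfulSMul.eq_of_smul_eq_smul (α := B)
  intro x
  rw [one_smul, ← sub_eq_zero]
  have : σ • x - x ∈ ⨅ n : ℕ, m ^ n := Ideal.mem_iInf.mpr fun n => key n x
  rwa [Ideal.iInf_pow_eq_bot_of_isDomain m (Ideal.IsMaximal.ne_top ‹_›), Submodule.mem_bot] at this

end Groth.Agent.Lib.EtAlgH7
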